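import Cfsg.Agent.Lib.RankTwo.CoreAbelian

/-!
The core is central once the field part is trivial and every involution of the centraliser centralises it.

* `Rep.commute_of_comm`: commuting elements of `C` act through commuting matrices;
* `Hyp.core_commute_fixed`: an element commuting with a second involution centralises the core;
* `Hyp.core_central`: `O ≤ Z(C)`.

Blueprint: `blueprint/RankTwo.md` (P9, glue).
-/

set_option autoImplicit false
set_option linter.unusedSectionVars false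
set_option linter.style.haveILetI false

namespace CfsgLib.RankTwoModel

open Cfsg CfsgLib.BG CfsgLib.GW CfsgLib.BenderMax
open scoped MatrixGroups

universe u

variable {G : Type u} [Group G] [Finite G] {d : Frame G}

local notation "SL[" d "]" => Matrix.SpecialLinearGroup (Fin 2) (Frame.F d)

/-- Matrices with a given determinant in the algebra of a trace zero matrix. -/
theorem SL2.exists_det_commute {F : Type} [Field F] [Fintype F] (hodd : Odd (Fintype.card F))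
    {g : GL (Fin 2) F} (htr : g.1.trace = 0) {δ : F} (hδ : δ ≠ 0) :
    ∃ t : GL (Fin 2) F, Commute t.1 g.1 ∧ t.1.det = δ := by
  have hchar : ringChar F ≠ 2 := fun hc => by
    haveI : CharP F 2 := ringChar.of_eq hc
    exact SL2Orders.two_ne_zero_of_odd hodd (CharP.cast_eq_zero F 2)
  have hg0 : g.1.det ≠ 0 := GW.Model.det_ne g
  obtain ⟨a, b, hab⟩ := FiniteField.exists_root_sum_quadratic
    (f := (Polynomial.X ^ 2 : Polynomial F))
    (g := Polynomial.C g.1.det * Polynomial.X ^ 2 + Polynomial.C (-δ))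
    (Polynomial.degree_X_pow 2)
    (by rw [Polynomial.degree_add_C (by rw [Polynomial.degree_C_mul_X_pow 2 hg0]; norm_num),
      Polynomial.degree_C_mul_X_pow 2 hg0]; rfl)
    (FiniteField.odd_card_of_char_ne_two hchar)
  simp at hab
  have h11 : g.1 1 1 = -g.1 0 0 := by rw [Matrix.trace_fin_two] at htr; linear_combination htr
  set M : Matrix (Fin 2) (Fin 2) F := a • (1 : Matrix (Fin 2) (Fin 2) F) + b • g.1 with hM
  have hdet : M.det = δ := by
    have hd' := Matrix.det_fin_two g.1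
    rw [h11] at hd'
    rw [hM, Matrix.det_fin_two]
    simp [h11]
    linear_combination hab + (-(b ^ 2)) * hd'
  refine ⟨Matrix.GeneralLinearGroup.mkOfDetNeZero M (by rw [hdet]; exact hδ), ?_, hdet⟩
  exact ((Commute.one_left g.1).smul_left a).add_left ((Commute.refl g.1).smul_left b)

variable (R : Rep d) (hd : d.Spec) (hq : 3 < d.q)

include hd hq in
/-- A commuting element does not negate the matrix of an element acting as an element of `SL₂`. -/
theorem Rep.not_negate (h : Hyp G) {a b : G} (ha : a ∈ d.C) (hb : b ∈ d.C) (hab : a * b = b * a) {A : SL[d]}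
    (hA : R.σ ⟨a, ha⟩ = MulAut.conj A) (hneg : R.σ ⟨b, hb⟩ A = -A) : False := by
  obtain ⟨y, hy, hyA⟩ := R.surj_D hd hq A
  have hyC := d.D_le hy
  have hkC : y⁻¹ * a ∈ d.C := mul_mem (inv_mem hyC) ha
  have hσk : R.σ ⟨y⁻¹ * a, hkC⟩ = 1 := by
    rw [show (⟨y⁻¹ * a, hkC⟩ : ↥d.C) = ⟨y, hyC⟩⁻¹ * ⟨a, ha⟩ from rfl, map_mul, map_inv, inv_mul_eq_one, hA]
    refine MulEquiv.ext fun B => ?_
    rw [R.sigma_inner ⟨y, hd.D_le_L hq hy⟩, hyA, MulAut.conj_apply]
  have hcen := R.central_of_sigma hd hq h hkC hσk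
  set π := QuotientGroup.mk' (oddCore ↥d.C)
  have e1 : π ⟨b, hb⟩ * π ⟨y, hyC⟩ * (π ⟨b, hb⟩)⁻¹ = π ⟨y, hyC⟩ := by
    have h1 : (⟨y, hyC⟩ : ↥d.C) = ⟨a, ha⟩ * ⟨y⁻¹ * a, hkC⟩⁻¹ := Subtype.ext (by
      show y = a * (y⁻¹ * a)⁻¹; group)
    have h2 : π ⟨b, hb⟩ * π ⟨a, ha⟩ = π ⟨a, ha⟩ * π ⟨b, hb⟩ := by
      rw [← map_mul, ← map_mul]; exact congrArg π (Subtype.ext hab.symm)
    rw [h1, map_mul, map_inv, ← mul_assoc, h2, mul_assoc, mul_assoc, ← mul_assoc (π ⟨b, hb⟩),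
      Subgroup.mem_center_iff.1 (inv_mem hcen) (π ⟨b, hb⟩), mul_inv_cancel_right]
  have hO : b * y * b⁻¹ * y⁻¹ ∈ d.O := by
    have h3 : π ((⟨b, hb⟩ : ↥d.C) * ⟨y, hyC⟩ * (⟨b, hb⟩ : ↥d.C)⁻¹ * (⟨y, hyC⟩ : ↥d.C)⁻¹) = 1 := by
      rw [map_mul, map_mul, map_mul, map_inv, map_inv, e1, mul_inv_cancel]
    exact ⟨_, (QuotientGroup.eq_one_iff _).mp h3, rfl⟩
  have hfix : R.σ ⟨b, hb⟩ A = A := by
    rw [← hyA, R.compat, ← mul_inv_eq_one, ← map_inv, ← map_mul]
    exact (R.ker _).2 hO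
  rw [hfix] at hneg
  have h0 : (2 : d.F) • A.1 = 0 := by
    rw [two_smul]
    nth_rewrite 1 [show A.1 = -A.1 from congrArg Subtype.val hneg]
    exact neg_add_cancel _
  have h1 := congrArg Matrix.det ((smul_eq_zero.mp h0).resolve_left (SL2Orders.two_ne_zero_of_odd hd.odd_card))
  rw [A.2, Matrix.det_zero] at h1
  exact one_ne_zero h1

include hd hq in
/-- **Commuting elements act through commuting matrices.** -/
theorem Rep.commute_of_comm (h : Hyp G) {a b : G} (ha : a ∈ d.C) (hb : b ∈ d.C) (hab : a * b = b * a)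
    {g k : GL (Fin 2) d.F} (hg : ∀ A : SL[d], (R.σ ⟨a, ha⟩ A).1 = g.1 * A.1 * (g⁻¹).1)
    (hk : ∀ A : SL[d], (R.σ ⟨b, hb⟩ A).1 = k.1 * A.1 * (k⁻¹).1) : Commute g.1 k.1 := by
  classical
  set j : GL (Fin 2) d.F := (k * g)⁻¹ * (g * k) with hj
  obtain ⟨c, hc⟩ := SL2.scalar_of_commute_all (X := j.1) fun A => by
    have h0 : (R.σ ⟨a, ha⟩ * R.σ ⟨b, hb⟩ : MulAut SL[d]) = R.σ ⟨b, hb⟩ * R.σ ⟨a, ha⟩ := by
      rw [← map_mul, ← map_mul]; exact congrArg R.σ (Subtype.ext hab)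
    have h1 := congrArg (fun χ => (χ A).1) h0
    simp only [MulAut.mul_apply, hg, hk] at h1
    have h2 := congrArg (fun M => (g⁻¹).1 * ((k⁻¹).1 * M * k.1) * g.1 * j.1) h1
    rw [hj] at h2 ⊢
    simp [Units.val_mul, Matrix.mul_assoc] at h2 ⊢
    exact h2
  have hdet : j.1.det = 1 := by
    rw [hj, ← Matrix.GeneralLinearGroup.val_det_apply, map_mul, map_inv, map_mul, map_mul,
      mul_comm (Matrix.GeneralLinearGroup.det g), inv_mul_cancel]
    rfl
  rw [hc, Matrix.det_smul, Fintype.card_fin, Matrix.det_one, mul_one, sq_eq_one_iff] at hdet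
  have hgk : g.1 * k.1 = c • (k.1 * g.1) := by
    calc g.1 * k.1 = (k * g).1 * j.1 := by rw [hj, ← Units.val_mul, ← Units.val_mul, mul_inv_cancel_left]
      _ = c • (k.1 * g.1) := by rw [hc, Matrix.mul_smul, mul_one, Units.val_mul]
  rcases hdet with rfl | rfl
  · show g.1 * k.1 = k.1 * g.1
    rw [hgk, one_smul]
  exfalso
  rw [neg_one_smul] at hgk
  -- a square determinant among `g`, `k`, `g k`
  have key : ∀ {a b : G} (ha : a ∈ d.C) (hb : b ∈ d.C), a * b = b * a → ∀ {g k : GL (Fin 2) d.F},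
      (∀ A : SL[d], (R.σ ⟨a, ha⟩ A).1 = g.1 * A.1 * (g⁻¹).1) →
      (∀ A : SL[d], (R.σ ⟨b, hb⟩ A).1 = k.1 * A.1 * (k⁻¹).1) →
      k.1 * g.1 = -(g.1 * k.1) → IsSquare g.1.det → False := by
    intro a b ha hb hab g k hg hk hanti ⟨r, hr⟩
    have hr0 : r ≠ 0 := fun e => GW.Model.det_ne g (by rw [hr, e, mul_zero])
    let A : SL[d] := ⟨r⁻¹ • g.1, by rw [Matrix.det_smul, Fintype.card_fin, hr]; field_simp⟩
    refine R.not_negate hd hq h ha hb hab (A := A) (MulEquiv.ext fun B => Subtype.ext ?_) (Subtype.ext ?_)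
    · have hAi : (A⁻¹).1 = r • (g⁻¹).1 := by
        refine left_inv_eq_right_inv (a := A.1) (congrArg Subtype.val (inv_mul_cancel A)) ?_
        show (r⁻¹ • g.1) * (r • (g⁻¹).1) = 1
        rw [Matrix.smul_mul, Matrix.mul_smul, smul_smul, inv_mul_cancel₀ hr0, one_smul, ← Units.val_mul,
          mul_inv_cancel, Units.val_one]
      rw [hg, MulAut.conj_apply]
      show _ = A.1 * B.1 * (A⁻¹).1
      rw [hAi]
      show _ = (r⁻¹ • g.1) * B.1 * (r • (g⁻¹).1)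
      rw [Matrix.smul_mul, Matrix.smul_mul, Matrix.mul_smul, smul_smul, inv_mul_cancel₀ hr0, one_smul]
    · rw [hk]
      show k.1 * (r⁻¹ • g.1) * (k⁻¹).1 = -(r⁻¹ • g.1)
      rw [Matrix.mul_smul, Matrix.smul_mul, hanti, Matrix.neg_mul, Matrix.mul_assoc, ← Units.val_mul,
        mul_inv_cancel, Units.val_one, Matrix.mul_one, smul_neg]
  have hanti : k.1 * g.1 = -(g.1 * k.1) := by rw [hgk, neg_neg]
  by_cases h1 : IsSquare g.1.det
  · exact key ha hb hab hg hk hanti h1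
  by_cases h2 : IsSquare k.1.det
  · exact key hb ha hab.symm hk hg hgk h2
  refine key (mul_mem ha hb) hb (by rw [← mul_assoc b, ← hab]) (g := g * k) (fun A => ?_)
    hk ?_ ?_
  · rw [show (⟨a * b, mul_mem ha hb⟩ : ↥d.C) = ⟨a, ha⟩ * ⟨b, hb⟩ from rfl, map_mul, MulAut.mul_apply, hg, hk,
      _root_.mul_inv_rev, Units.val_mul, Units.val_mul]
    simp only [Matrix.mul_assoc]
  · rw [Units.val_mul, ← Matrix.mul_assoc, hanti, Matrix.neg_mul]
  · have hc' : ringChar d.F ≠ 2 := fun e => by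
      haveI : CharP d.F 2 := ringChar.of_eq e
      exact SL2Orders.two_ne_zero_of_odd hd.odd_card (CharP.cast_eq_zero d.F 2)
    have hg0 := GW.Model.det_ne g
    have hk0 := GW.Model.det_ne k
    rw [Units.val_mul, Matrix.det_mul, FiniteField.isSquare_iff hc' (mul_ne_zero hg0 hk0), mul_pow]
    rw [FiniteField.isSquare_iff hc' hg0] at h1
    rw [FiniteField.isSquare_iff hc' hk0] at h2
    rw [(FiniteField.pow_dichotomy hc' hg0).resolve_left h1, (FiniteField.pow_dichotomy hc' hk0).resolve_left h2]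
    ring

/-- Every element of the centraliser acts as a conjugation by `GL₂`. -/
def Rep.Inner : Prop :=
  ∀ c : ↥d.C, ∃ g : GL (Fin 2) d.F, ∀ A : SL[d], (R.σ c A).1 = g.1 * A.1 * (g⁻¹).1

include hd hq in
/-- **An element commuting with a second involution centralises the core.** -/
theorem Hyp.core_commute_fixed (h : Hyp G) (hOD : ∀ x ∈ d.O, ∀ y ∈ d.D, x * y = y * x)
    (hOu : ∀ x ∈ d.O, ∀ v ∈ d.C, orderOf v = 2 → v * x = x * v) (hin : R.Inner) {g : G}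
    (hne : g * d.z * g⁻¹ ≠ d.z) (hcm : g * d.z * g⁻¹ * d.z = d.z * (g * d.z * g⁻¹)) {c : G} (hc : c ∈ d.C)
    (hcu : c * (g * d.z * g⁻¹) = g * d.z * g⁻¹ * c) {x : G} (hx : x ∈ d.O) : c * x = x * c := by
  have hu2 : orderOf (g * d.z * g⁻¹) = 2 := by simpa using (orderOf_cj g d.z).trans hd.zord
  have huC : g * d.z * g⁻¹ ∈ d.C := Subgroup.mem_centralizer_singleton_iff.mpr hcm
  set v := g⁻¹ * d.z * g with hv
  have hvC : v ∈ d.C := by
    refine Subgroup.mem_centralizer_singleton_iff.2 ?_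
    calc g⁻¹ * d.z * g * d.z = g⁻¹ * (d.z * (g * d.z * g⁻¹)) * g := by group
      _ = g⁻¹ * (g * d.z * g⁻¹ * d.z) * g := by rw [hcm]
      _ = d.z * (g⁻¹ * d.z * g) := by group
  have hv2 : orderOf v = 2 := by rw [hv]; simpa using (orderOf_cj g⁻¹ d.z).trans hd.zord
  have hvz : v ≠ d.z := fun e => hne (by
    calc g * d.z * g⁻¹ = g * v * g⁻¹ := by rw [e]
      _ = d.z := by rw [hv]; group)
  have hcar : ∀ k ∈ d.C, k * (g * d.z * g⁻¹) = g * d.z * g⁻¹ * k →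
      g⁻¹ * k * g ∈ d.C ∧ (g⁻¹ * k * g) * v = v * (g⁻¹ * k * g) := fun k hk hku => by
    refine ⟨Subgroup.mem_centralizer_singleton_iff.2 ?_, ?_⟩
    · calc g⁻¹ * k * g * d.z = g⁻¹ * (k * (g * d.z * g⁻¹)) * g := by group
        _ = g⁻¹ * (g * d.z * g⁻¹ * k) * g := by rw [hku]
        _ = d.z * (g⁻¹ * k * g) := by group
    · have e := Frame.Spec.z_central hk
      rw [hv]
      calc g⁻¹ * k * g * (g⁻¹ * d.z * g) = g⁻¹ * (k * d.z) * g := by group
        _ = g⁻¹ * (d.z * k) * g := by rw [e]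
        _ = _ := by group
  obtain ⟨hc', hc'v⟩ := hcar c hc hcu
  obtain ⟨hx', hx'v⟩ := hcar x (d.O_le hx) (hOu x hx _ huC hu2).symm
  obtain ⟨g₀, -, hns, hg₀⟩ := R.invol hd hq h hvC hv2 hvz
  obtain ⟨k, hk⟩ := hin ⟨_, hc'⟩
  obtain ⟨m, hm⟩ := hin ⟨_, hx'⟩
  have hcom := SL2.commute_conj_torus hns (R.commute_of_comm hd hq h hc' hvC hc'v hk hg₀)
    (R.commute_of_comm hd hq h hx' hvC hx'v hm hg₀) hk hm
  set e := c * x * c⁻¹ * x⁻¹ with he
  have heO : e ∈ d.O := mul_mem (Frame.Spec.O_conj hc hx) (inv_mem hx)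
  have hege : g⁻¹ * e * g = (g⁻¹ * c * g) * (g⁻¹ * x * g) * (g⁻¹ * c * g)⁻¹ * (g⁻¹ * x * g)⁻¹ := by
    rw [he]; group
  have heC : g⁻¹ * e * g ∈ d.C := hege ▸ mul_mem (mul_mem (mul_mem hc' hx') (inv_mem hc')) (inv_mem hx')
  have he'O : g⁻¹ * e * g ∈ d.O := by
    refine R.sigma_eq_one hd hq h heC ?_ ?_
    · rw [show g⁻¹ * e * g = g⁻¹ * e * g⁻¹⁻¹ by group, orderOf_cj]
      exact d.O_odd.of_dvd_nat (Subgroup.orderOf_dvd_natCard _ heO)
    · rw [show (⟨g⁻¹ * e * g, heC⟩ : ↥d.C) = ⟨_, hc'⟩ * ⟨_, hx'⟩ * ⟨_, hc'⟩⁻¹ * ⟨_, hx'⟩⁻¹ from Subtype.ext hege,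
        map_mul, map_mul, map_mul, map_inv, map_inv, hcom, mul_inv_cancel_right, mul_inv_cancel]
  have h1 := h.core_meet hd hq hOD hne hcm heO he'O
  rw [he, mul_inv_eq_one, mul_inv_eq_iff_eq_mul] at h1
  exact h1

include hd hq in
/-- **The core is central.** -/
theorem Hyp.core_central (h : Hyp G) (hOD : ∀ x ∈ d.O, ∀ y ∈ d.D, x * y = y * x)
    (hOu : ∀ x ∈ d.O, ∀ v ∈ d.C, orderOf v = 2 → v * x = x * v) (hin : R.Inner) :
    ∀ o ∈ d.O, ∀ c ∈ d.C, o * c = c * o := by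
  classical
  have hzz : d.z * d.z = 1 := invol_mul_self hd.zord
  obtain ⟨u, hu, hu1, huz⟩ : ∃ u ∈ d.U, u ≠ 1 ∧ u ≠ d.z := by
    by_contra hcon
    push Not at hcon
    have hle : d.U ≤ Subgroup.zpowers d.z := fun x hx => by
      by_cases h1 : x = 1
      · exact h1 ▸ one_mem _
      · exact hcon x hx h1 ▸ Subgroup.mem_zpowers _
    have := Subgroup.card_le_of_le hle
    rw [hd.klein.card_four, Nat.card_zpowers, hd.zord] at this
    omega
  haveI := hd.klein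
  have huu : u * u = 1 := congrArg Subtype.val (IsKleinFour.mul_self (⟨u, hu⟩ : d.U))
  have hu2 : orderOf u = 2 := orderOf_eq_prime (by rw [pow_two]; exact huu) hu1
  have huC : u ∈ d.C := Subgroup.mem_centralizer_singleton_iff.mpr (hd.zc u (hd.US hu))
  obtain ⟨g, rfl⟩ := isConj_iff.mp (h.all_conj d.z u hd.zord hu2)
  have hcm := Frame.Spec.z_central huC
  obtain ⟨g₀, htr, -, hg₀⟩ := R.invol hd hq h huC hu2 huz
  set u := g * d.z * g⁻¹ with hudef
  have hfix := fun {c : G} (hc : c ∈ d.C) (hcu : c * u = u * c) {x : G} (hx : x ∈ d.O) =>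
    h.core_commute_fixed R hd hq hOD hOu hin huz hcm hc hcu hx
  have hab : ∀ x ∈ d.O, ∀ y ∈ d.O, x * y = y * x := fun x hx y hy =>
    hfix (d.O_le hx) (hOu x hx u huC hu2).symm hy
  intro o ho c hc
  obtain ⟨k, hk⟩ := hin ⟨c, hc⟩
  obtain ⟨t, htg, htd⟩ := SL2.exists_det_commute hd.odd_card htr (GW.Model.det_ne k)
  -- `k t⁻¹` lies in `SL₂`
  have hdet : (k * t⁻¹).1.det = 1 := by
    rw [← Matrix.GeneralLinearGroup.val_det_apply, map_mul, map_inv, Units.val_mul, Units.val_inv_eq_inv_val,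
      Matrix.GeneralLinearGroup.val_det_apply, Matrix.GeneralLinearGroup.val_det_apply, htd,
      mul_inv_cancel₀ (GW.Model.det_ne k)]
  obtain ⟨y, hy, hyA⟩ := R.surj_D hd hq ⟨(k * t⁻¹).1, hdet⟩
  have hyC := d.D_le hy
  set c₁ := y⁻¹ * c with hc₁
  have hc₁C : c₁ ∈ d.C := mul_mem (inv_mem hyC) hc
  have hkey : Matrix.SpecialLinearGroup.toGL (R.π ⟨y, hd.D_le_L hq hy⟩) = k * t⁻¹ := by
    rw [hyA]
    exact Units.ext rfl
  have hσc₁ : ∀ A : SL[d], (R.σ ⟨c₁, hc₁C⟩ A).1 = t.1 * A.1 * (t⁻¹).1 := fun A => by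
    rw [show (⟨c₁, hc₁C⟩ : ↥d.C) = ⟨y⁻¹, inv_mem hyC⟩ * ⟨c, hc⟩ from rfl, map_mul, MulAut.mul_apply,
      R.sigma_inner ⟨y⁻¹, hd.D_le_L hq (inv_mem hy)⟩]
    show (R.π ⟨y⁻¹, _⟩).1 * (R.σ ⟨c, hc⟩ A).1 * ((R.π ⟨y⁻¹, _⟩)⁻¹).1 = _
    rw [show (⟨y⁻¹, hd.D_le_L hq (inv_mem hy)⟩ : ↥d.L) = ⟨y, hd.D_le_L hq hy⟩⁻¹ from rfl, map_inv, inv_inv, hk]
    have e1 : (Matrix.SpecialLinearGroup.toGL (R.π ⟨y, hd.D_le_L hq hy⟩)⁻¹).1 = ((k * t⁻¹)⁻¹).1 := by
      rw [map_inv, hkey]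
    have e2 : (Matrix.SpecialLinearGroup.toGL (R.π ⟨y, hd.D_le_L hq hy⟩)).1 = (k * t⁻¹).1 := by rw [hkey]
    show (Matrix.SpecialLinearGroup.toGL (R.π ⟨y, hd.D_le_L hq hy⟩)⁻¹).1 * (k.1 * A.1 * (k⁻¹).1) *
      (Matrix.SpecialLinearGroup.toGL (R.π ⟨y, hd.D_le_L hq hy⟩)).1 = _
    rw [e1, e2]
    simp [Matrix.mul_assoc]
  -- `c₁` fixes or swaps the two involutions
  have hyo : ∀ x ∈ d.O, Commute y x := fun x hx => (hOD x hx y hy).symm
  have hc₁fix : ∀ x ∈ d.O, Commute c₁ x := by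
    set u' := c₁ * u * c₁⁻¹ with hu'
    have hu'C : u' ∈ d.C := mul_mem (mul_mem hc₁C huC) (inv_mem hc₁C)
    have hu'2 : orderOf u' = 2 := (orderOf_cj c₁ u).trans hu2
    set e := u' * u with he
    have heC : e ∈ d.C := mul_mem hu'C huC
    have hσe : R.σ ⟨e, heC⟩ = 1 := by
      have h1 : R.σ ⟨u', hu'C⟩ = R.σ ⟨u, huC⟩ := by
        rw [show (⟨u', hu'C⟩ : ↥d.C) = ⟨c₁, hc₁C⟩ * ⟨u, huC⟩ * ⟨c₁, hc₁C⟩⁻¹ from rfl, map_mul, map_mul, map_inv,
          mul_inv_eq_iff_eq_mul]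
        refine MulEquiv.ext fun A => Subtype.ext ?_
        rw [MulAut.mul_apply, MulAut.mul_apply, hσc₁, hg₀, hg₀, hσc₁]
        have hc' : t * g₀ = g₀ * t := Units.ext htg.eq
        calc t.1 * (g₀.1 * A.1 * (g₀⁻¹).1) * (t⁻¹).1 = (t * g₀).1 * A.1 * ((t * g₀)⁻¹).1 := by
              simp [Matrix.mul_assoc]
          _ = (g₀ * t).1 * A.1 * ((g₀ * t)⁻¹).1 := by rw [hc']
          _ = _ := by simp [Matrix.mul_assoc]
      rw [show (⟨e, heC⟩ : ↥d.C) = ⟨u', hu'C⟩ * ⟨u, huC⟩ from rfl, map_mul, h1, ← map_mul,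
        show (⟨u, huC⟩ : ↥d.C) * ⟨u, huC⟩ = 1 from Subtype.ext (invol_mul_self hu2), map_one]
    have hcen := R.central_of_sigma hd hq h heC hσe
    have hee : u * e * u⁻¹ = e := by
      have h2 := Subgroup.mem_center_iff.1 hcen (QuotientGroup.mk' _ ⟨u, huC⟩)
      have hO : u * e * u⁻¹ * e⁻¹ ∈ d.O := by
        have h3 : QuotientGroup.mk' (oddCore ↥d.C)
            ((⟨u, huC⟩ : ↥d.C) * ⟨e, heC⟩ * (⟨u, huC⟩ : ↥d.C)⁻¹ * (⟨e, heC⟩ : ↥d.C)⁻¹) = 1 := by
          rw [map_mul, map_mul, map_mul, map_inv, map_inv, h2, mul_inv_cancel_right, mul_inv_cancel]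
        exact ⟨_, (QuotientGroup.eq_one_iff _).mp h3, rfl⟩
      set o₁ := u * e * u⁻¹ * e⁻¹ with ho₁
      have h3 : o₁ * o₁ = 1 := by
        have h4 : u * o₁ * u⁻¹ = o₁⁻¹ := by
          calc u * o₁ * u⁻¹ = (u * u) * e * (u * u)⁻¹ * (u * e⁻¹ * u⁻¹) := by rw [ho₁]; group
            _ = o₁⁻¹ := by rw [invol_mul_self hu2, ho₁]; group
        rw [hOu o₁ hO u huC hu2, mul_inv_cancel_right] at h4
        exact mul_eq_one_iff_eq_inv.2 h4
      have h5 : o₁ = 1 := orderOf_eq_one_iff.mp (Nat.eq_one_of_dvd_coprimes (Nat.coprime_two_left.mpr d.O_odd)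
        (orderOf_dvd_of_pow_eq_one (by rw [pow_two, h3])) (Subgroup.orderOf_dvd_natCard _ hO))
      exact mul_inv_eq_one.1 h5
    have hu'u : u' * u = u * u' := by
      calc u' * u = u * e * u⁻¹ := by rw [hee]
        _ = u * u' := by rw [he]; group
    have hcases : e = 1 ∨ e = d.z := by
      by_cases h1 : e = 1
      · exact Or.inl h1
      refine Or.inr (by_contra fun hz => R.sigma_ne_one hd hq h heC ?_ hz hσe)
      refine orderOf_eq_prime ?_ h1
      rw [pow_two]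
      calc e * e = u' * (u * u') * u := by rw [he]; group
        _ = u' * u' * (u * u) := by rw [← hu'u]; group
        _ = 1 := by rw [invol_mul_self hu'2, invol_mul_self hu2, one_mul]
    intro x hx
    rcases hcases with h1 | h1
    · refine hfix hc₁C ?_ hx
      rw [he, mul_eq_one_iff_eq_inv, inv_eq_of_mul_eq_one_right (invol_mul_self hu2), hu',
        mul_inv_eq_iff_eq_mul] at h1
      exact h1
    · obtain ⟨w, hw, hwu⟩ := h.swap_D hd hq huC hu2 huz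
      have h2 : u' = w * u * w⁻¹ := by
        rw [hwu, ← h1, he, mul_assoc, invol_mul_self hu2, mul_one]
      have h3 : Commute (w⁻¹ * c₁) x := hfix (mul_mem (inv_mem (d.D_le hw)) hc₁C) (by
        calc w⁻¹ * c₁ * u = w⁻¹ * (c₁ * u * c₁⁻¹) * c₁ := by group
          _ = w⁻¹ * (w * u * w⁻¹) * c₁ := by rw [← hu', h2]
          _ = u * (w⁻¹ * c₁) := by group) hx
      have h4 : Commute w x := (hOD x hx w hw).symm
      have h5 := h4.mul_left h3
      rwa [mul_inv_cancel_left] at h5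
  have := (hyo o ho).mul_left (hc₁fix o ho)
  rw [hc₁, mul_inv_cancel_left] at this
  exact this.symm.eq

end CfsgLib.RankTwoModel
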