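import Cfsg.Agent.Lib.RankTwoModel.Glue.FieldSL2
import Cfsg.Agent.Lib.RankTwoModel.FieldTransfer
import Cfsg.Agent.Lib.RankTwo.CoreAbelian

/-!
The field part of the centraliser agrees along commuting involutions: if `a` and `g⁻¹ a g` lie in `C`, have odd
order and `a` induces no field automorphism, neither does `g⁻¹ a g`.

* `Rep.field`: the field part `C → Aut F`;
* `Hyp.field_pair`: the statement above, by descent on a primitive prime of a torus;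
* `Hyp.field_pairInv`: an odd character through the field part satisfies the pair condition.

Blueprint: `blueprint/RankTwo.md` (P9, glue).
-/

set_option autoImplicit false
set_option linter.unusedSectionVars false
set_option linter.style.haveILetI false

namespace CfsgLib.RankTwoModel

open Cfsg CfsgLib.BG CfsgLib.GW CfsgLib.BenderMax
open scoped MatrixGroups

universe u

variable {G : Type u} [Group G] [Finite G] {d : Frame G}

local notation "SL[" d "]" => Matrix.SpecialLinearGroup (Fin 2) (Frame.F d)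

/-- The field part of the action of the centraliser on `SL₂(q)`. -/
noncomputable def Rep.field (R : Rep d) (hd : d.Spec) : ↥d.C →* RingAut d.F :=
  haveI : Fact d.p.Prime := ⟨hd.prime⟩
  haveI := hd.charP
  ((PSL2.fieldPart d.p).comp (PSL2.centreQuotAut _)).comp R.σ

variable (R : Rep d) (hd : d.Spec) (hq : 3 < d.q)

theorem Rep.field_eq {c : ↥d.C} {g : GL (Fin 2) d.F} {e : d.F ≃+* d.F} (he : SL2.Semi (R.σ c) g e) :
    R.field hd c = e := by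
  haveI : Fact d.p.Prime := ⟨hd.prime⟩
  haveI := hd.charP
  exact SL2.fieldPart_toPSL d.p he

include hq in
theorem Rep.exists_conj_of_field {c : ↥d.C} (h1 : R.field hd c = 1) :
    ∃ g : GL (Fin 2) d.F, ∀ A : SL[d], (R.σ c A).1 = g.1 * A.1 * (g⁻¹).1 := by
  haveI : Fact d.p.Prime := ⟨hd.prime⟩
  haveI := hd.charP
  obtain ⟨g, e, he⟩ := SL2.exists_semi d.p (hd.three_lt hq) (R.σ c)
  have h := R.field_eq hd he
  rw [h1] at h
  refine ⟨g, fun A => ?_⟩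
  rw [he A, show A.1.map e = A.1 from Matrix.ext fun i j => by rw [Matrix.map_apply, ← h]; rfl]

theorem Rep.field_L {x : G} (hx : x ∈ d.L) : R.field hd ⟨x, d.L_le hx⟩ = 1 := by
  refine (R.field_eq hd (g := Matrix.SpecialLinearGroup.toGL (R.π ⟨x, hx⟩)) (e := RingEquiv.refl d.F)
    fun A => ?_).trans rfl
  rw [R.sigma_inner ⟨x, hx⟩, show A.1.map (RingEquiv.refl d.F) = A.1 from Matrix.ext fun _ _ => rfl,
    ← map_inv Matrix.SpecialLinearGroup.toGL (R.π ⟨x, hx⟩)]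
  rfl

/-- A violation: an odd element with no field part whose conjugate has field part of order `r`. -/
def Rep.Viol (g : G) (r : ℕ) : Prop :=
  ∃ (a : G) (ha : a ∈ d.C) (ha' : g⁻¹ * a * g ∈ d.C), Odd (orderOf a) ∧ R.field hd ⟨a, ha⟩ = 1 ∧
    orderOf (R.field hd ⟨g⁻¹ * a * g, ha'⟩) = r

theorem commute_of_conj_mem {g a : G} (ha' : g⁻¹ * a * g ∈ d.C) :
    a * (g * d.z * g⁻¹) = g * d.z * g⁻¹ * a :=
  FieldTransfer.comm_inv ha'

theorem conj_mem_of_commute {g a : G} (ha : a * (g * d.z * g⁻¹) = g * d.z * g⁻¹ * a) : g⁻¹ * a * g ∈ d.C :=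
  Subgroup.mem_centralizer_singleton_iff.mpr (by
    calc g⁻¹ * a * g * d.z = g⁻¹ * (a * (g * d.z * g⁻¹)) * g := by group
      _ = g⁻¹ * (g * d.z * g⁻¹ * a) * g := by rw [ha]
      _ = d.z * (g⁻¹ * a * g) := by group)

include hd hq in
/-- **The descent step.** -/
theorem Rep.viol_step (h : Hyp G) (hOD : ∀ x ∈ d.O, ∀ y ∈ d.D, x * y = y * x) {g : G}
    (hne : g * d.z * g⁻¹ ≠ d.z) (hcm : g * d.z * g⁻¹ * d.z = d.z * (g * d.z * g⁻¹)) {r : ℕ} (hr : r.Prime)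
    (hV : R.Viol hd g r) : ∃ s, r < s ∧ s.Prime ∧ R.Viol hd g s := by
  classical
  obtain ⟨a, ha, ha', haodd, hfa, hfa'⟩ := hV
  haveI : Fact d.p.Prime := ⟨hd.prime⟩
  haveI := hd.charP
  have hodd := hd.odd_card
  have h3 := hd.three_lt hq
  have hau := commute_of_conj_mem ha'
  set u := g * d.z * g⁻¹ with hu
  have huC : u ∈ d.C := Subgroup.mem_centralizer_singleton_iff.mpr hcm
  have hu2 : orderOf u = 2 := by rw [hu]; simpa using (orderOf_cj g d.z).trans hd.zord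
  have huu : u * u = 1 := invol_mul_self hu2
  have hzz : d.z * d.z = 1 := invol_mul_self hd.zord
  have hr2 : r ≠ 2 := fun e => by
    have h1 : r ∣ orderOf a := by
      rw [← hfa', ← orderOf_cj g⁻¹ a, inv_inv]
      exact (orderOf_map_dvd _ _).trans (dvd_of_eq (Subgroup.orderOf_mk _ _))
    exact (Nat.not_even_iff_odd.mpr haodd) (even_iff_two_dvd.mpr (e ▸ h1))
  obtain ⟨g₁, e₁, he₁⟩ := SL2.exists_semi d.p h3 (R.σ ⟨g⁻¹ * a * g, ha'⟩)
  have hord : orderOf (e₁ : RingAut d.F) = r := by rw [← hfa', R.field_eq hd he₁]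
  -- the torus at the involution
  obtain ⟨g₀, htr, hns, hg₀⟩ := R.invol hd hq h huC hu2 hne
  obtain ⟨b, hb, -, hbA⟩ := SL2.exists_torus hodd h3 htr
  obtain ⟨hcyc, hcard⟩ := SL2Tori.isCyclic_centralizer hb
  haveI := hcyc
  obtain ⟨s, hs, hrs, hs2, hsN, hmove⟩ := SL2.exists_prime_gt d.p hodd hr hr2 hord hcard
  haveI := Fact.mk hs
  obtain ⟨B, hB⟩ := exists_prime_orderOf_dvd_card' s hsN
  have hBs : orderOf (B : SL[d]) = s := by rw [Subgroup.orderOf_coe]; exact hB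
  have hBg : Commute (B : SL[d]).1 g₀.1 := (hbA _).1 B.2
  have hBfix : R.σ ⟨u, huC⟩ (B : SL[d]) = B := Subtype.ext (by
    rw [hg₀, ← hBg.eq, Matrix.mul_assoc, ← Units.val_mul, mul_inv_cancel, Units.val_one, Matrix.mul_one])
  obtain ⟨t₀, ht₀D, ht₀B, ht₀u⟩ := R.lift_fixed_D hd hq huC huu hBfix
  obtain ⟨w, hw, hwu⟩ := h.swap_D hd hq huC hu2 hne
  have hwC := d.D_le hw
  have hwu' : w * (d.z * u) * w⁻¹ = u := by
    calc w * (d.z * u) * w⁻¹ = (w * d.z * w⁻¹) * (w * u * w⁻¹) := by group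
      _ = d.z * (d.z * u) := by rw [hwu, Frame.Spec.z_central hwC, mul_inv_cancel_right]
      _ = u := by rw [← mul_assoc, hzz, one_mul]
  set T : Subgroup G := d.D ⊓ Subgroup.centralizer ({u} : Set G) with hT
  have hmemT : ∀ {t : G}, t ∈ d.D → t * u = u * t → t ∈ T := fun h1 h2 =>
    ⟨h1, Subgroup.mem_centralizer_singleton_iff.2 h2⟩
  have hTu : ∀ {t : G}, t ∈ T → t * u = u * t := fun ht => Subgroup.mem_centralizer_singleton_iff.1 ht.2
  have hσu : ∀ (A : SL[d]), R.σ ⟨u, huC⟩ A = A → Commute A.1 g₀.1 := fun A hA => by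
    have h1 := congrArg Subtype.val hA
    rw [hg₀] at h1
    show A.1 * g₀.1 = g₀.1 * A.1
    conv_lhs => rw [← h1]
    simp [Matrix.mul_assoc]
  have hTfix : ∀ t : T, Commute (R.π ⟨t, hd.D_le_L hq t.2.1⟩).1 g₀.1 := fun t => hσu _ (by
    rw [R.compat]
    congr 1
    exact Subtype.ext (by show u * (t : G) * u⁻¹ = t; rw [← hTu t.2, mul_inv_cancel_right]))
  let f : T →* Subgroup.centralizer ({b} : Set SL[d]) :=
    (R.π.comp (Subgroup.inclusion (inf_le_left.trans (hd.D_le_L hq) : T ≤ d.L))).codRestrict _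
      fun t => (hbA _).2 (hTfix t)
  have hfker : f.ker ≤ Subgroup.center T := fun t ht => Subgroup.mem_center_iff.2 fun t' => Subtype.ext
    (hOD _ ((R.ker _).1 (congrArg Subtype.val ht)) _ t'.2.1).symm
  have hTab : ∀ a ∈ T, ∀ c ∈ T, a * c = c * a := fun a ha c hc =>
    congrArg Subtype.val ((MonoidHom.isMulCommutative_of_isCyclic_of_ker_le_center f hfker).is_comm.comm
      ⟨a, ha⟩ ⟨c, hc⟩)
  have hwT : ∀ t ∈ T, w * t * w⁻¹ ∈ T := fun t ht => hmemT (mul_mem (mul_mem hw ht.1) (inv_mem hw)) (by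
    have h1 : Commute t (d.z * u) := (show Commute t d.z from Frame.Spec.z_central (d.D_le ht.1)).mul_right (hTu ht)
    have h2 := (Commute.conj_iff w).2 h1
    rw [hwu'] at h2
    exact h2.eq)
  have hw2 : w * w ∈ T := hmemT (mul_mem hw hw) (by
    calc w * w * u = w * (w * u * w⁻¹) * w⁻¹ * (w * w) := by group
      _ = u * (w * w) := by rw [hwu, hwu'])
  -- `π w` inverts the torus
  set W := R.π ⟨w, hd.D_le_L hq hw⟩ with hW
  have hgW : g₀.1 * W.1 * (g₀⁻¹).1 = -W.1 := by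
    have hui : u⁻¹ = u := inv_eq_of_mul_eq_one_right huu
    have hc := R.compat ⟨u, huC⟩ ⟨w, hd.D_le_L hq hw⟩
    have e1 : u * w * u⁻¹ = d.z * w := by
      calc u * w * u⁻¹ = u * (w * u * w⁻¹)⁻¹ * w := by group
        _ = u * (u * d.z) * w := by rw [hwu, mul_inv_rev, hui, inv_eq_of_mul_eq_one_right hzz]
        _ = d.z * w := by rw [← mul_assoc, huu, one_mul]
    have e2 : (⟨u * w * u⁻¹, d.L_conj huC (hd.D_le_L hq hw)⟩ : ↥d.L) = ⟨d.z, hd.z_mem_L⟩ * ⟨w, hd.D_le_L hq hw⟩ :=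
      Subtype.ext e1
    rw [show R.π ⟨(⟨u, huC⟩ : ↥d.C) * ((⟨w, hd.D_le_L hq hw⟩ : ↥d.L) : G) * ((⟨u, huC⟩ : ↥d.C) : G)⁻¹, _⟩ = _
      from congrArg R.π e2, map_mul, R.pi_z hd, ← hW] at hc
    have h1 := congrArg Subtype.val hc
    rw [hg₀] at h1
    simpa using h1
  -- an element of `T` of `s`-power order inverted by `w`
  set t₁ := t₀ * (w * t₀⁻¹ * w⁻¹) with ht₁
  have ht₀T : t₀ ∈ T := hmemT ht₀D ht₀u
  have ht₁T : t₁ ∈ T := mul_mem ht₀T (hwT _ (inv_mem ht₀T))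
  have hwt₁ : w * t₁ * w⁻¹ = t₁⁻¹ := by
    calc w * t₁ * w⁻¹ = w * t₀ * w⁻¹ * ((w * w) * t₀⁻¹ * (w * w)⁻¹) := by rw [ht₁]; group
      _ = w * t₀ * w⁻¹ * t₀⁻¹ := by rw [hTab _ hw2 _ (inv_mem ht₀T), mul_inv_cancel_right]
      _ = t₁⁻¹ := by rw [ht₁]; group
  have ht₁B : R.π ⟨t₁, hd.D_le_L hq ht₁T.1⟩ = (B : SL[d]) ^ 2 := by
    rw [show (⟨t₁, hd.D_le_L hq ht₁T.1⟩ : ↥d.L) = ⟨t₀, hd.D_le_L hq ht₀D⟩ * (⟨w, hd.D_le_L hq hw⟩ *
      ⟨t₀, hd.D_le_L hq ht₀D⟩⁻¹ * ⟨w, hd.D_le_L hq hw⟩⁻¹) from rfl, map_mul, map_mul, map_mul, map_inv, map_inv,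
      ht₀B, ← hW, pow_two]
    congr 1
    rw [show W * (B : SL[d])⁻¹ * W⁻¹ = (W * (B : SL[d]) * W⁻¹)⁻¹ by group, SL2.inv_of_anticomm htr hns hgW hBg, inv_inv]
  set n := orderOf t₁ with hn
  have hn0 : n ≠ 0 := (orderOf_pos t₁).ne'
  set M := ordCompl[s] n with hM
  have hsM : ¬ s ∣ M := Nat.not_dvd_ordCompl hs hn0
  set t := t₁ ^ M with htdef
  have htT : t ∈ T := pow_mem ht₁T _
  have hwt : w * t * w⁻¹ = t⁻¹ := by rw [htdef, ← conj_pow, hwt₁, inv_pow]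
  have htpow : t ^ s ^ n.factorization s = 1 := by
    rw [htdef, ← pow_mul, mul_comm, hM, Nat.ordProj_mul_ordCompl_eq_self, hn, pow_orderOf_eq_one]
  have htodd : Odd (orderOf t) := ((hs.odd_of_ne_two hs2).pow).of_dvd_nat (orderOf_dvd_of_pow_eq_one htpow)
  have hπt : orderOf (R.π ⟨t, hd.D_le_L hq htT.1⟩) = s := by
    rw [show (⟨t, hd.D_le_L hq htT.1⟩ : ↥d.L) = ⟨t₁, hd.D_le_L hq ht₁T.1⟩ ^ M from rfl, map_pow, ht₁B, ← pow_mul]
    rw [Nat.Coprime.orderOf_pow (by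
      rw [hBs]
      exact (hs.coprime_iff_not_dvd).2 fun hdv => by
        rcases hs.dvd_mul.1 hdv with h1 | h1
        · exact hs2 ((Nat.prime_dvd_prime_iff_eq hs Nat.prime_two).1 h1)
        · exact hsM h1), hBs]
  have htC : t ∈ d.C := d.D_le htT.1
  -- `a` centralises it
  obtain ⟨h₀, hh₀⟩ := R.exists_conj_of_field hd hq hfa
  have hσa : Odd (orderOf (R.σ ⟨a, ha⟩)) :=
    haodd.of_dvd_nat ((orderOf_map_dvd _ _).trans (dvd_of_eq (Subgroup.orderOf_mk _ _)))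
  have hat : a * t * a⁻¹ = t := by
    have hσt : R.σ ⟨a, ha⟩ (R.π ⟨t, hd.D_le_L hq htT.1⟩) = R.π ⟨t, hd.D_le_L hq htT.1⟩ :=
      SL2.fix_of_commute hns hσa hg₀ hh₀
        ((show Commute (⟨a, ha⟩ : ↥d.C) ⟨u, huC⟩ from Subtype.ext hau).map R.σ) (hTfix ⟨t, htT⟩)
    rw [R.compat, ← mul_inv_eq_one, ← map_inv, ← map_mul] at hσt
    have hcO : a * t * a⁻¹ * t⁻¹ ∈ d.O := (R.ker _).1 hσt
    set c := a * t * a⁻¹ * t⁻¹ with hc
    have haT : ∀ x ∈ T, a * x * a⁻¹ ∈ T := fun x hx => hmemT (d.D_conj ha hx.1)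
      (((Commute.conj_iff a).2 (hTu hx)).eq |> fun e => by
        rwa [show a * u * a⁻¹ = u from mul_inv_eq_iff_eq_mul.2 hau] at e)
    have hcT : c ∈ T := mul_mem (haT _ htT) (inv_mem htT)
    set τ := w⁻¹ * (a * w * a⁻¹) with hτ
    have hτT : τ ∈ T := hmemT (mul_mem (inv_mem hw) (d.D_conj ha hw)) (by
      have e1 : a * w * a⁻¹ * u * (a * w * a⁻¹)⁻¹ = d.z * u := by
        calc a * w * a⁻¹ * u * (a * w * a⁻¹)⁻¹ = a * (w * (a⁻¹ * u * a) * w⁻¹) * a⁻¹ := by group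
          _ = a * (d.z * u) * a⁻¹ := by
            rw [show a⁻¹ * u * a = u from by rw [mul_assoc, ← hau, inv_mul_cancel_left], hwu]
          _ = (a * d.z * a⁻¹) * (a * u * a⁻¹) := by group
          _ = _ := by rw [Frame.Spec.z_central ha, hau, mul_inv_cancel_right, mul_inv_cancel_right]
      have e2 : τ * u * τ⁻¹ = u := by
        calc τ * u * τ⁻¹ = w⁻¹ * (a * w * a⁻¹ * u * (a * w * a⁻¹)⁻¹) * w := by rw [hτ]; group
          _ = w⁻¹ * (w * u * w⁻¹) * w := by rw [e1, hwu]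
          _ = u := by group
      exact mul_inv_eq_iff_eq_mul.1 e2)
    have hwc : w * c * w⁻¹ = c := by rw [← hOD _ hcO _ hw, mul_inv_cancel_right]
    have hct : a * t * a⁻¹ = c * t := by rw [hc]; group
    have key : c * t⁻¹ = c⁻¹ * t⁻¹ := by
      calc c * t⁻¹ = w * c * w⁻¹ * (w * t * w⁻¹) := by rw [hwc, hwt]
        _ = w * (c * t) * w⁻¹ := by group
        _ = w * (τ * (c * t) * τ⁻¹) * w⁻¹ := by
          rw [hTab _ hτT _ (mul_mem hcT htT), mul_inv_cancel_right]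
        _ = a * (w * (a⁻¹ * (c * t) * a) * w⁻¹) * a⁻¹ := by rw [hτ]; group
        _ = a * (w * t * w⁻¹) * a⁻¹ := by rw [← hct]; group
        _ = (a * t * a⁻¹)⁻¹ := by rw [hwt]; group
        _ = c⁻¹ * t⁻¹ := by rw [hct, mul_inv_rev, hTab _ (inv_mem htT) _ (inv_mem hcT)]
    have hc2 : c ^ 2 = 1 := by
      have := mul_right_cancel key
      rw [pow_two]
      nth_rewrite 2 [this]
      exact mul_inv_cancel c
    have hc1 : c = 1 := orderOf_eq_one_iff.mp (Nat.eq_one_of_dvd_coprimes (Nat.coprime_two_left.mpr d.O_odd)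
      (orderOf_dvd_of_pow_eq_one hc2) (Subgroup.orderOf_dvd_natCard _ hcO))
    rw [hct, hc1, one_mul]
  -- its conjugate
  have ht'C : g⁻¹ * t * g ∈ d.C := conj_mem_of_commute (hTu htT)
  have hft : R.field hd ⟨t, htC⟩ = 1 := R.field_L hd (hd.D_le_L hq htT.1)
  set F' := R.field hd ⟨g⁻¹ * t * g, ht'C⟩ with hF'
  have hF'pow : F' ^ s ^ n.factorization s = 1 := by
    rw [hF', ← map_pow]
    refine (congrArg _ (Subtype.ext ?_ : (⟨g⁻¹ * t * g, ht'C⟩ : ↥d.C) ^ s ^ n.factorization s = 1)).trans (map_one _)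
    show (g⁻¹ * t * g) ^ _ = (1 : G)
    rw [show g⁻¹ * t * g = g⁻¹ * t * g⁻¹⁻¹ by group, conj_pow, htpow, mul_one, mul_inv_cancel]
  by_cases hF : F' = 1
  swap
  · obtain ⟨j, hj, hjord⟩ := (Nat.dvd_prime_pow hs).1 (orderOf_dvd_of_pow_eq_one hF'pow)
    obtain ⟨j, rfl⟩ : ∃ j', j = j' + 1 := Nat.exists_eq_succ_of_ne_zero (fun h0 => hF (by
      rw [h0, pow_zero, orderOf_eq_one_iff] at hjord
      exact hjord))
    have e : g⁻¹ * t ^ s ^ j * g = (g⁻¹ * t * g) ^ s ^ j := by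
      rw [show g⁻¹ * t * g = g⁻¹ * t * g⁻¹⁻¹ by group, conj_pow, inv_inv]
    refine ⟨s, hrs, hs, t ^ s ^ j, pow_mem htC _, e ▸ pow_mem ht'C _, ?_, ?_, ?_⟩
    · exact htodd.of_dvd_nat (orderOf_pow_dvd _)
    · rw [show (⟨t ^ s ^ j, pow_mem htC _⟩ : ↥d.C) = ⟨t, htC⟩ ^ s ^ j from rfl, map_pow, hft, one_pow]
    · rw [show (⟨g⁻¹ * t ^ s ^ j * g, e ▸ pow_mem ht'C _⟩ : ↥d.C) = ⟨g⁻¹ * t * g, ht'C⟩ ^ s ^ j from Subtype.ext e,
        map_pow, ← hF', orderOf_pow' _ (pow_ne_zero _ hs.ne_zero), hjord,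
        Nat.gcd_eq_right (pow_dvd_pow s (Nat.le_succ j)), pow_succ, Nat.mul_div_cancel_left _ (pow_pos hs.pos _)]
  exfalso
  -- it induces an element of order a power of `s`, fixed by the conjugate of `a`
  obtain ⟨h₁, hh₁⟩ := R.exists_conj_of_field hd hq (hF : R.field hd ⟨g⁻¹ * t * g, ht'C⟩ = 1)
  set χ := R.σ ⟨g⁻¹ * t * g, ht'C⟩ with hχ
  have hχodd : Odd (orderOf χ) := htodd.of_dvd_nat ((orderOf_map_dvd _ _).trans (dvd_of_eq (by
    rw [Subgroup.orderOf_mk, ← orderOf_cj g⁻¹ t, inv_inv])))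
  have hχ1 : χ ≠ 1 := by
    intro e1
    have ht'O : g⁻¹ * t * g ∈ d.O :=
      R.sigma_eq_one hd hq h ht'C (by rwa [show g⁻¹ * t * g = g⁻¹ * t * g⁻¹⁻¹ by group, orderOf_cj]) e1
    set k := g⁻¹ * w * g with hk
    have hkz : k * d.z * k⁻¹ = g⁻¹ * d.z * g * d.z := by
      calc k * d.z * k⁻¹ = g⁻¹ * (w * u * w⁻¹) * g := by rw [hk, hu]; group
        _ = g⁻¹ * (d.z * u) * g := by rw [hwu]
        _ = g⁻¹ * d.z * g * d.z := by rw [hu]; group
    have hvz : g⁻¹ * d.z * g * d.z = d.z * (g⁻¹ * d.z * g) := by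
      calc g⁻¹ * d.z * g * d.z = g⁻¹ * (d.z * u) * g := by rw [hu]; group
        _ = g⁻¹ * (u * d.z) * g := by rw [hcm]
        _ = d.z * (g⁻¹ * d.z * g) := by rw [hu]; group
    have h1 : (g⁻¹ * t * g)⁻¹ = 1 := by
      refine h.core_meet hd hq hOD (g := k) ?_ ?_ (inv_mem ht'O) ?_
      · rw [hkz]
        intro e
        have h2 : g⁻¹ * d.z * g = 1 := mul_eq_right.1 e
        rw [show g⁻¹ * d.z * g = g⁻¹ * d.z * g⁻¹⁻¹ by group, conj_eq_one_iff] at h2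
        have := hd.zord
        rw [h2, orderOf_one] at this
        omega
      · rw [hkz]
        nth_rewrite 1 [hvz]
        group
      · rw [show k⁻¹ * (g⁻¹ * t * g)⁻¹ * k = g⁻¹ * (w⁻¹ * t⁻¹ * w) * g by rw [hk]; group,
          show w⁻¹ * t⁻¹ * w = t by rw [← hwt]; group]
        exact ht'O
    rw [inv_eq_one, show g⁻¹ * t * g = g⁻¹ * t * g⁻¹⁻¹ by group, conj_eq_one_iff] at h1
    rw [show (⟨t, hd.D_le_L hq htT.1⟩ : ↥d.L) = 1 from Subtype.ext h1, map_one, orderOf_one] at hπt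
    exact hs.ne_one hπt.symm
  obtain ⟨y₀, hy₀⟩ := SL2.exists_inner_sq hh₁
  have hcomm : Commute (R.σ ⟨g⁻¹ * a * g, ha'⟩) χ := by
    refine (show Commute (⟨g⁻¹ * a * g, ha'⟩ : ↥d.C) ⟨g⁻¹ * t * g, ht'C⟩ from Subtype.ext ?_).map R.σ
    show g⁻¹ * a * g * (g⁻¹ * t * g) = g⁻¹ * t * g * (g⁻¹ * a * g)
    calc g⁻¹ * a * g * (g⁻¹ * t * g) = g⁻¹ * (a * t * a⁻¹) * a * g := by group
      _ = g⁻¹ * t * g * (g⁻¹ * a * g) := by rw [hat]; group
  set φ := R.σ ⟨g⁻¹ * a * g, ha'⟩ with hφ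
  -- `φ` fixes the square of `y₀`
  have hfix : φ (y₀ ^ 2) = y₀ ^ 2 := by
    have h1 : MulAut.conj (φ y₀) = MulAut.conj y₀ := MulEquiv.ext fun A => by
      have h2 := congrArg (fun ψ : MulAut SL[d] => ψ (φ.symm A)) (hcomm.pow_right 2).eq
      simp only [MulAut.mul_apply, hy₀, MulAut.conj_apply, map_mul, map_inv, MulEquiv.apply_symm_apply] at h2
      simpa [MulAut.conj_apply] using h2
    have h3' : y₀⁻¹ * φ y₀ ∈ Subgroup.center SL[d] := Subgroup.mem_center_iff.2 fun A => by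
      have h2 := congrArg (fun ψ : MulAut SL[d] => ψ A) h1
      simp only [MulAut.conj_apply] at h2
      calc A * (y₀⁻¹ * φ y₀) = y₀⁻¹ * (y₀ * A * y₀⁻¹) * φ y₀ := by group
        _ = y₀⁻¹ * φ y₀ * A := by rw [← h2]; group
    have h4 : (y₀⁻¹ * φ y₀) ^ 2 = 1 := by
      obtain ⟨c, hc, hA⟩ := Matrix.SpecialLinearGroup.mem_center_iff.mp h3'
      rw [Fintype.card_fin] at hc
      exact Subtype.ext (by
        show ((y₀⁻¹ * φ y₀) ^ 2).1 = 1
        rw [Matrix.SpecialLinearGroup.coe_pow, ← hA, ← map_pow, hc, map_one])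
    have h5 : Commute y₀ (y₀⁻¹ * φ y₀) := (Subgroup.mem_center_iff.1 h3' y₀)
    have h6 := h5.mul_pow 2
    rw [h4, mul_one, mul_inv_cancel_left] at h6
    rw [map_pow]
    exact h6
  set y₁ := y₀ ^ 2 with hy₁
  have hdvd : s ∣ orderOf y₁ := by
    have h4 : MulAut.conj y₁ = χ ^ 4 := by rw [hy₁, map_pow, ← hy₀, ← pow_mul]
    have hco : Nat.Coprime (orderOf χ) 4 :=
      (Nat.coprime_two_right.mpr hχodd).pow_right 2
    have hne1 : orderOf (χ ^ 4) ≠ 1 := by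
      rw [hco.orderOf_pow, Ne, orderOf_eq_one_iff]
      exact hχ1
    have hdv : orderOf (χ ^ 4) ∣ s ^ n.factorization s := by
      rw [hco.orderOf_pow]
      refine ((orderOf_map_dvd _ _).trans (dvd_of_eq ?_)).trans (orderOf_dvd_of_pow_eq_one htpow)
      rw [Subgroup.orderOf_mk, ← orderOf_cj g⁻¹ t, inv_inv]
    obtain ⟨j, -, hj⟩ := (Nat.dvd_prime_pow hs).1 hdv
    refine dvd_trans ?_ (orderOf_map_dvd MulAut.conj y₁)
    rw [h4, hj]
    exact dvd_pow_self _ (fun e0 => hne1 (by rw [hj, e0, pow_zero]))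
  have hy₁0 : orderOf y₁ ≠ 0 := (orderOf_pos y₁).ne'
  refine hmove φ g₁ he₁ (y₁ ^ (orderOf y₁ / s)) ?_ (by rw [map_pow, hfix])
  rw [orderOf_pow' _ (Nat.div_pos (Nat.le_of_dvd (Nat.pos_of_ne_zero hy₁0) hdvd) hs.pos).ne',
    Nat.gcd_eq_right (Nat.div_dvd_of_dvd hdvd), Nat.div_div_self hdvd hy₁0]

include hd hq in
/-- **The field part agrees along commuting involutions.** -/
theorem Hyp.field_pair (h : Hyp G) (hOD : ∀ x ∈ d.O, ∀ y ∈ d.D, x * y = y * x) {g : G}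
    (hne : g * d.z * g⁻¹ ≠ d.z) (hcm : g * d.z * g⁻¹ * d.z = d.z * (g * d.z * g⁻¹)) {a : G} (ha : a ∈ d.C)
    (ha' : g⁻¹ * a * g ∈ d.C) (hodd : Odd (orderOf a)) (h1 : R.field hd ⟨a, ha⟩ = 1) :
    R.field hd ⟨g⁻¹ * a * g, ha'⟩ = 1 := by
  classical
  haveI : Finite (RingAut d.F) :=
    Finite.of_injective (fun g : RingAut d.F => (g : d.F → d.F)) DFunLike.coe_injective
  have hno : ∀ (k r : ℕ), Nat.card (RingAut d.F) < r + k → r.Prime → ¬ R.Viol hd g r := by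
    intro k
    induction k with
    | zero =>
      intro r hr hp hV
      obtain ⟨b, hb, hb', -, -, hbr⟩ := hV
      have := orderOf_le_card (x := R.field hd ⟨g⁻¹ * b * g, hb'⟩)
      rw [hbr] at this
      omega
    | succ k ih =>
      intro r hr hp hV
      obtain ⟨s, hrs, hs, hVs⟩ := R.viol_step hd hq h hOD hne hcm hp hV
      exact ih s (by omega) hs hVs
  by_contra hne1
  set e := R.field hd ⟨g⁻¹ * a * g, ha'⟩ with he
  obtain ⟨r, hr, hro⟩ := Nat.exists_prime_and_dvd (fun e1 : orderOf e = 1 => hne1 (orderOf_eq_one_iff.mp e1))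
  obtain ⟨k, hk⟩ := hro
  have hk0 : k ≠ 0 := fun e0 => by
    rw [e0, mul_zero] at hk
    exact (orderOf_pos e).ne' hk
  have e' : g⁻¹ * a ^ k * g = (g⁻¹ * a * g) ^ k := by
    rw [show g⁻¹ * a * g = g⁻¹ * a * g⁻¹⁻¹ by group, conj_pow, inv_inv]
  refine hno (Nat.card (RingAut d.F) + 1) r (by omega) hr ⟨a ^ k, pow_mem ha _, e' ▸ pow_mem ha' _, ?_, ?_, ?_⟩
  · exact hodd.of_dvd_nat (orderOf_pow_dvd _)
  · rw [show (⟨a ^ k, pow_mem ha _⟩ : ↥d.C) = ⟨a, ha⟩ ^ k from rfl, map_pow, h1, one_pow]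
  · rw [show (⟨g⁻¹ * a ^ k * g, e' ▸ pow_mem ha' _⟩ : ↥d.C) = ⟨g⁻¹ * a * g, ha'⟩ ^ k from Subtype.ext e', map_pow,
      ← he, orderOf_pow' _ hk0, hk, Nat.gcd_eq_right (dvd_mul_left k r), Nat.mul_div_cancel _ (Nat.pos_of_ne_zero hk0)]

include hd hq in
/-- **The pair condition** for a character through the field part faithful on its odd part and of odd order. -/
theorem Hyp.field_pairInv (h : Hyp G) (hOD : ∀ x ∈ d.O, ∀ y ∈ d.D, x * y = y * x) {A : Type*} [CommGroup A]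
    (χ : RingAut d.F →* A) (hinj : ∀ e, Odd (orderOf e) → χ e = 1 → e = 1) {k : ℕ} (hk : Odd k)
    (hpow : ∀ e, χ e ^ k = 1) :
    FieldTransfer.PairInv (z := d.z) (χ.comp (R.field hd) : ↥(Subgroup.centralizer ({d.z} : Set G)) →* A) := by
  classical
  have hzz : d.z * d.z = 1 := invol_mul_self hd.zord
  refine FieldTransfer.pairInv_of_four _ hzz fun y hy hyz hne => ?_
  obtain ⟨g, hg⟩ := isConj_iff.mp hy
  subst hg
  set v := g⁻¹ * d.z * g with hv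
  have hvC : v ∈ d.C := Subgroup.mem_centralizer_singleton_iff.2 (by
    calc g⁻¹ * d.z * g * d.z = g⁻¹ * (d.z * (g * d.z * g⁻¹)) * g := by group
      _ = g⁻¹ * (g * d.z * g⁻¹ * d.z) * g := by rw [hyz.eq]
      _ = d.z * (g⁻¹ * d.z * g) := by group)
  have hv2 : orderOf v = 2 := by rw [hv]; simpa using (orderOf_cj g⁻¹ d.z).trans hd.zord
  have hvz : v ≠ d.z := fun e => hne (by
    calc g * d.z * g⁻¹ = g * v * g⁻¹ := by rw [e]
      _ = d.z := by rw [hv]; group)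
  set y := g * d.z * g⁻¹ with hy'
  have hyC : y ∈ d.C := Subgroup.mem_centralizer_singleton_iff.mpr hyz.eq
  have hy2 : orderOf y = 2 := by rw [hy']; simpa using (orderOf_cj g d.z).trans hd.zord
  have hyy : y * y = 1 := invol_mul_self hy2
  obtain ⟨τ, hτD, hτy⟩ := h.swap_D hd hq hyC hy2 hne
  obtain ⟨w, hwD, hwv⟩ := h.swap_D hd hq hvC hv2 hvz
  have hτz : τ * d.z * τ⁻¹ = d.z := by rw [Frame.Spec.z_central (d.D_le hτD), mul_inv_cancel_right]
  set ρ := g * w * g⁻¹ with hρ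
  have hρy : ρ * y * ρ⁻¹ = y := by
    calc ρ * y * ρ⁻¹ = g * (w * d.z * w⁻¹) * g⁻¹ := by rw [hρ, hy']; group
      _ = y := by rw [Frame.Spec.z_central (d.D_le hwD), mul_inv_cancel_right]
  have hρz : ρ * d.z * ρ⁻¹ = y * d.z := by
    calc ρ * d.z * ρ⁻¹ = g * (w * v * w⁻¹) * g⁻¹ := by rw [hρ, hv]; group
      _ = g * (d.z * v) * g⁻¹ := by rw [hwv]
      _ = y * d.z := by rw [hy', hv]; group
  have hsz : τ * ρ * τ * d.z * (τ * ρ * τ)⁻¹ = y := by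
    calc τ * ρ * τ * d.z * (τ * ρ * τ)⁻¹ = τ * (ρ * (τ * d.z * τ⁻¹) * ρ⁻¹) * τ⁻¹ := by group
      _ = τ * (y * d.z) * τ⁻¹ := by rw [hτz, hρz]
      _ = τ * y * τ⁻¹ * (τ * d.z * τ⁻¹) := by group
      _ = y := by rw [hτy, hτz, ← hyz.eq, mul_assoc, hzz, mul_one]
  have hsy : τ * ρ * τ * y * (τ * ρ * τ)⁻¹ = d.z := by
    calc τ * ρ * τ * y * (τ * ρ * τ)⁻¹ = τ * (ρ * (τ * y * τ⁻¹) * ρ⁻¹) * τ⁻¹ := by group
      _ = τ * (ρ * (d.z * y) * ρ⁻¹) * τ⁻¹ := by rw [hτy]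
      _ = τ * ((ρ * d.z * ρ⁻¹) * (ρ * y * ρ⁻¹)) * τ⁻¹ := by group
      _ = τ * (y * (d.z * y)) * τ⁻¹ := by rw [hρz, hρy, mul_assoc y d.z y]
      _ = d.z := by rw [← hyz.eq, ← mul_assoc y y, hyy, one_mul, hτz]
  refine ⟨τ * ρ * τ, hsz, hsy, ?_, τ, Frame.Spec.z_central (d.D_le hτD), hτy⟩
  set σ := τ * ρ * τ with hσ
  intro x hxz hxy hx hθ hx'
  have hn0 : orderOf x ≠ 0 := (orderOf_pos x).ne'
  set a := (orderOf x).factorization 2 with ha
  set m := orderOf x / 2 ^ a with hm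
  have hmodd : Odd m := by
    rw [← Nat.not_even_iff_odd, even_iff_two_dvd]
    exact Nat.not_dvd_ordCompl Nat.prime_two hn0
  have hxodd : Odd (orderOf (x ^ 2 ^ a)) := by
    rw [orderOf_pow_of_dvd (pow_ne_zero _ two_ne_zero) (Nat.ordProj_dvd _ _)]
    exact hmodd
  have hx2C : x ^ 2 ^ a ∈ d.C := pow_mem hx _
  have hpowC : (⟨x ^ 2 ^ a, hx2C⟩ : ↥d.C) = ⟨x, hx⟩ ^ 2 ^ a := rfl
  have hfield : R.field hd ⟨x ^ 2 ^ a, hx2C⟩ = 1 := by
    refine hinj _ (hxodd.of_dvd_nat ((orderOf_map_dvd _ _).trans (dvd_of_eq (Subgroup.orderOf_mk _ _)))) ?_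
    rw [hpowC, map_pow, map_pow]
    exact (congrArg (· ^ 2 ^ a) hθ).trans (one_pow _)
  have hσ' : σ⁻¹ * d.z * σ⁻¹⁻¹ = y := by rw [← hsy]; group
  have hconj : σ⁻¹⁻¹ * x ^ 2 ^ a * σ⁻¹ = (σ * x * σ⁻¹) ^ 2 ^ a := by rw [inv_inv, conj_pow]
  have hmem : σ⁻¹⁻¹ * x ^ 2 ^ a * σ⁻¹ ∈ d.C := hconj ▸ pow_mem hx' _
  have h1 := h.field_pair R hd hq hOD (g := σ⁻¹) (by rw [hσ']; exact hne) (by rw [hσ']; exact hyz.eq) hx2C hmem
    hxodd hfield
  rw [show (⟨σ⁻¹⁻¹ * x ^ 2 ^ a * σ⁻¹, hmem⟩ : ↥d.C) = ⟨σ * x * σ⁻¹, hx'⟩ ^ 2 ^ a from Subtype.ext hconj,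
    map_pow] at h1
  have h2 : χ (R.field hd ⟨σ * x * σ⁻¹, hx'⟩) ^ 2 ^ a = 1 := by rw [← map_pow, h1, map_one]
  have h3 := pow_gcd_eq_one.mpr ⟨h2, hpow _⟩
  rw [(Nat.Coprime.pow_left a (Nat.coprime_two_left.mpr hk)).gcd_eq_one, pow_one] at h3
  exact h3

end CfsgLib.RankTwoModel
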