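import Cfsg.Agent.Lib.RankTwoModel.Rep
import Cfsg.Agent.Lib.RankTwo.TorusFix

/-!
Elementary facts on `SL₂(q)` used to move field automorphisms between commuting involutions.

* `exists_prime_gt`: the primitive prime of `exists_prime` exceeds the order of the field part;
* `inv_of_anticomm`: an element anticommuting with a trace zero matrix inverts its torus;
* `fix_of_commute`: an odd conjugation commuting with that of a trace zero matrix fixes its torus;
* `exists_inner_sq`: the square of a conjugation by `GL₂` is inner.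

Blueprint: `blueprint/RankTwo.md` (P9, glue).
-/

set_option autoImplicit false
set_option linter.unusedSectionVars false
set_option linter.style.haveILetI false

namespace CfsgLib.RankTwoModel.SL2

open Matrix Cfsg CfsgLib.PSL2 CfsgLib.GW.Model
open scoped MatrixGroups

variable {F : Type} [Field F] [Fintype F]

local notation "M2" => Matrix (Fin 2) (Fin 2) F
local notation "SL" => Matrix.SpecialLinearGroup (Fin 2) F
local notation "PSL" => Matrix.ProjectiveSpecialLinearGroup (Fin 2) F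

/-- The primitive prime exceeds the order of the field part. -/
theorem exists_prime_gt (p : ℕ) [Fact p.Prime] [CharP F p] (hodd : Odd (Fintype.card F)) {e : F ≃+* F} {r : ℕ}
    (hr : r.Prime) (hr2 : r ≠ 2) (hord : orderOf (e : RingAut F) = r) {N : ℕ}
    (hN : N = Fintype.card F - 1 ∨ N = Fintype.card F + 1) :
    ∃ s : ℕ, s.Prime ∧ r < s ∧ s ≠ 2 ∧ s ∣ N ∧
      ∀ (φ : MulAut SL) (g : GL (Fin 2) F), Semi φ g e → ∀ y : SL, orderOf y = s → φ y ≠ y := by
  classical
  set n := Nat.card (GW.Model.fixField e) with hn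
  have hq : n ^ r = Fintype.card F := hord ▸ GW.Model.card_fixField e
  have hp : p.Prime := Fact.out
  obtain ⟨k, -, hk⟩ := FiniteField.card F p
  have hpn : p ∣ n := hp.dvd_of_dvd_pow (by rw [hq, hk]; exact dvd_pow_self _ k.ne_zero)
  have hn3 : 3 ≤ n := by
    have hp2 := GW.Model.p_ne_two p hodd
    have := hp.two_le
    have h0 : 0 < n := Nat.card_pos
    have := Nat.le_of_dvd h0 hpn
    omega
  have hq0 := Fintype.card_pos (α := F)
  obtain ⟨ε, hε, hT⟩ : ∃ ε : ℤ, (ε = 1 ∨ ε = -1) ∧ (N : ℤ) = (n : ℤ) ^ r - ε := by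
    rw [show ((n : ℤ) ^ r) = (Fintype.card F : ℤ) by exact_mod_cast hq]
    rcases hN with h | h
    · exact ⟨1, Or.inl rfl, by omega⟩
    · exact ⟨-1, Or.inr rfl, by omega⟩
  obtain ⟨s, hs, -, hs2, hsT, hsm, hsp⟩ := GW.Model.exists_primitive hn3 hr hr2 hε
  have hgt : r < s := by
    haveI : Fact s.Prime := ⟨hs⟩
    set x : ZMod s := (n : ZMod s) ^ 2 with hx
    have hε2 : (ε : ZMod s) ^ 2 = 1 := by rcases hε with rfl | rfl <;> simp
    have h1 : (n : ZMod s) ^ r = (ε : ZMod s) := by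
      have h0 := (ZMod.intCast_zmod_eq_zero_iff_dvd _ s).mpr hsT
      push_cast at h0
      exact sub_eq_zero.mp h0
    have hxr : x ^ r = 1 := by rw [hx, ← pow_mul, mul_comm, pow_mul, h1, hε2]
    have hx1 : x ≠ 1 := by
      intro e1
      rw [hx, sq_eq_one_iff] at e1
      rcases e1 with e1 | e1
      · refine hsm ?_
        rw [← ZMod.natCast_eq_zero_iff, Nat.cast_sub (by omega), e1, Nat.cast_one, sub_self]
      · refine hsp ?_
        rw [← ZMod.natCast_eq_zero_iff, Nat.cast_add, e1, Nat.cast_one, neg_add_cancel]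
    have hor : orderOf x = r := by
      haveI := Fact.mk hr
      exact orderOf_eq_prime hxr hx1
    have h2 : r ∣ s - 1 := hor ▸ ZMod.orderOf_dvd_card_sub_one (fun e0 => by
      rw [e0, zero_pow hr.pos.ne'] at hxr
      exact zero_ne_one hxr)
    have := Nat.le_of_dvd (by have := hs.two_le; omega) h2
    have := hr.two_le
    omega
  rw [← hT] at hsT
  have hsN : s ∣ N := Int.natCast_dvd_natCast.mp hsT
  have hsp' : s ≠ p := SL2Tori.not_dvd_char (F := F) p s hs (by rcases hN with h | h <;> rw [h] at hsN <;> simp [hsN])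
  refine ⟨s, hs, hgt, hs2, hsN, fun φ g hφ y hy hfix => ?_⟩
  have hu : toPSL φ (mk y) = (mk y : PSL) := by rw [toPSL_mk, hfix]
  have key := GW.Model.orderOf_fixed p hodd hu
  rw [fieldPart_toPSL p hφ, orderOf_mk_eq hs hs2 hy] at key
  rcases key with h | h | h | h
  · exact hsm (((Nat.coprime_primes hs Nat.prime_two).mpr hs2).dvd_of_dvd_mul_left h)
  · exact hsp (((Nat.coprime_primes hs Nat.prime_two).mpr hs2).dvd_of_dvd_mul_left h)
  · exact hsp' ((Nat.prime_dvd_prime_iff_eq hs hp).mp h)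
  · exact hs2 ((Nat.prime_dvd_prime_iff_eq hs Nat.prime_two).mp h)

/-- An element anticommuting with a trace zero matrix inverts its torus. -/
theorem inv_of_anticomm {g : GL (Fin 2) F} (htr : g.1.trace = 0) (hns : ∀ a : F, g.1 ≠ a • (1 : M2)) {W A : SL}
    (hgW : g.1 * W.1 * (g⁻¹).1 = -W.1) (hA : Commute A.1 g.1) : W * A * W⁻¹ = A⁻¹ := by
  obtain ⟨a, c, hac⟩ := SL2Centralizer.exists_of_commute hns hA
  have hgW' : W.1 * g.1 = -(g.1 * W.1) := by
    have h1 := congrArg (fun M => M * g.1) hgW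
    simp only [Matrix.mul_assoc, ← Units.val_mul, inv_mul_cancel, Units.val_one, Matrix.mul_one,
      Matrix.neg_mul] at h1
    rw [h1, neg_neg]
  have hWA : W.1 * A.1 = (a • (1 : M2) - c • g.1) * W.1 := by
    rw [hac, Matrix.mul_add, Matrix.sub_mul, Matrix.mul_smul, Matrix.mul_smul, Matrix.smul_mul, Matrix.smul_mul,
      Matrix.mul_one, Matrix.one_mul, hgW', smul_neg, sub_eq_add_neg]
  have h11 : g.1 1 1 = -g.1 0 0 := by rw [Matrix.trace_fin_two] at htr; linear_combination htr
  have hdet := A.2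
  rw [hac, Matrix.det_fin_two] at hdet
  simp [h11] at hdet
  refine eq_inv_of_mul_eq_one_right (Subtype.ext ?_)
  show A.1 * (W.1 * A.1 * (W⁻¹).1) = 1
  rw [hWA, Matrix.mul_assoc (a • (1 : M2) - c • g.1), show W.1 * (W⁻¹).1 = 1 from
    congrArg Subtype.val (mul_inv_cancel W), Matrix.mul_one, hac]
  ext i j
  fin_cases i <;> fin_cases j <;> simp [Matrix.mul_apply, Fin.sum_univ_two, h11] <;>
    first | linear_combination hdet | linear_combination -hdet | ring

/-- An odd conjugation commuting with that of a trace zero matrix fixes its torus. -/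
theorem fix_of_commute {g h : GL (Fin 2) F} (hns : ∀ a : F, g.1 ≠ a • (1 : M2))
    {φ ψ : MulAut SL} (hφ : Odd (orderOf φ)) (hψ : ∀ A : SL, (ψ A).1 = g.1 * A.1 * (g⁻¹).1)
    (hh : ∀ A : SL, (φ A).1 = h.1 * A.1 * (h⁻¹).1) (hcomm : Commute φ ψ) {A : SL} (hA : Commute A.1 g.1) :
    φ A = A := by
  set k : GL (Fin 2) F := (g * h)⁻¹ * (h * g) with hk
  obtain ⟨a, ha⟩ := scalar_of_commute_all (X := k.1) fun A => by
    have h1 := congrArg (fun χ => (χ A).1) hcomm.eq
    simp only [MulAut.mul_apply, hh, hψ] at h1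
    have h2 := congrArg (fun M => (h⁻¹).1 * ((g⁻¹).1 * M * g.1) * h.1 * k.1) h1
    rw [hk] at h2 ⊢
    simp [Units.val_mul, Matrix.mul_assoc] at h2 ⊢
    exact h2
  have hdet : k.1.det = 1 := by
    rw [hk, ← Matrix.GeneralLinearGroup.val_det_apply, map_mul, map_inv, map_mul, map_mul,
      mul_comm (GeneralLinearGroup.det h), inv_mul_cancel]
    rfl
  rw [ha, Matrix.det_smul, Fintype.card_fin, Matrix.det_one, mul_one] at hdet
  have hgh : h.1 * g.1 = a • (g.1 * h.1) := by
    calc h.1 * g.1 = (g * h).1 * k.1 := by rw [hk, ← Units.val_mul, ← Units.val_mul, mul_inv_cancel_left]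
      _ = a • (g.1 * h.1) := by rw [ha, Matrix.mul_smul, mul_one, Units.val_mul]
  have hc2 : Commute (h * h).1 g.1 := by
    show (h * h).1 * g.1 = g.1 * (h * h).1
    rw [Units.val_mul, Matrix.mul_assoc, hgh, Matrix.mul_smul, ← Matrix.mul_assoc, hgh, Matrix.smul_mul, smul_smul,
      ← pow_two, hdet, one_smul, Matrix.mul_assoc]
  have hc2A : (h * h).1 * A.1 = A.1 * (h * h).1 := by
    obtain ⟨x, y, hxy⟩ := SL2Centralizer.exists_of_commute hns hA
    rw [hxy]
    exact (((Commute.one_left _).smul_left x).add_left (hc2.symm.smul_left y)).eq.symm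
  have hφ2 : (φ ^ 2) A = A := Subtype.ext (by
    rw [pow_two, MulAut.mul_apply, hh, hh]
    calc h.1 * (h.1 * A.1 * (h⁻¹).1) * (h⁻¹).1 = (h * h).1 * A.1 * ((h * h)⁻¹).1 := by
          simp [Matrix.mul_assoc]
      _ = A.1 := by rw [hc2A, Matrix.mul_assoc, ← Units.val_mul, mul_inv_cancel, Units.val_one, Matrix.mul_one])
  obtain ⟨j, hj⟩ := hφ
  have h4 : ∀ i : ℕ, ((φ ^ 2) ^ i) A = A := fun i => by
    induction i with
    | zero => simp
    | succ i ih => rw [pow_succ, MulAut.mul_apply, hφ2, ih]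
  have h5 : (φ ^ 2) ^ (j + 1) = φ := by
    rw [← pow_mul, show 2 * (j + 1) = orderOf φ + 1 by omega, pow_succ, pow_orderOf_eq_one, one_mul]
  rw [← h5]
  exact h4 _

/-- The square of a conjugation by `GL₂` is inner. -/
theorem exists_inner_sq {φ : MulAut SL} {h : GL (Fin 2) F} (hh : ∀ A : SL, (φ A).1 = h.1 * A.1 * (h⁻¹).1) :
    ∃ y : SL, φ ^ 2 = MulAut.conj y := by
  set δ : F := h.1.det with hδ
  have hδ0 : δ ≠ 0 := GW.Model.det_ne h
  let y : SL := ⟨δ⁻¹ • (h * h).1, by
    rw [Matrix.det_smul, Units.val_mul, Matrix.det_mul, ← hδ, Fintype.card_fin]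
    field_simp⟩
  refine ⟨y, MulEquiv.ext fun A => Subtype.ext ?_⟩
  rw [pow_two, MulAut.mul_apply, hh, hh, MulAut.conj_apply]
  show _ = y.1 * A.1 * (y⁻¹).1
  have hyi : (y⁻¹).1 = δ • ((h * h)⁻¹).1 := by
    refine (left_inv_eq_right_inv (a := y.1) ?_ ?_)
    · exact congrArg Subtype.val (inv_mul_cancel y)
    · show (δ⁻¹ • (h * h).1) * (δ • ((h * h)⁻¹).1) = 1
      rw [Matrix.smul_mul, Matrix.mul_smul, smul_smul, inv_mul_cancel₀ hδ0, one_smul, ← Units.val_mul, mul_inv_cancel,
        Units.val_one]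
  rw [hyi]
  show _ = (δ⁻¹ • (h * h).1) * A.1 * (δ • ((h * h)⁻¹).1)
  rw [Matrix.smul_mul, Matrix.smul_mul, Matrix.mul_smul, smul_smul, inv_mul_cancel₀ hδ0, one_smul]
  simp [Matrix.mul_assoc]

end CfsgLib.RankTwoModel.SL2
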